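import Groth.Agent.EGA43.HenselCompare.Model
import Groth.Agent.NodeLib7.Core
import Groth.Agent.NodeLib7.Quad
import Mathlib

/-!
# Linear and quadratic parts of power series and Jacobian minors
-/

set_option autoImplicit false
set_option linter.style.haveILetI false

universe u

open IsLocalRing MvPowerSeries

namespace Groth.Agent.NodeMinors9

open Et18

variable {k : Type u} [Field k] {n m : ℕ}

local notation "PS" => MvPowerSeries (Fin n) k
local notation "𝔪" => maximalIdeal (MvPowerSeries (Fin n) k)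

theorem mem_m {p : PS} : p ∈ 𝔪 ↔ constantCoeff p = 0 := mem_maximalIdeal_iff

/-- The linear part. -/
noncomputable def lin (p : PS) : Fin n → k := fun i => constantCoeff (pderiv k i p)

/-- The derivative in the direction `v`. -/
noncomputable def D (v : Fin n → k) (p : PS) : PS := ∑ i, C (v i) * pderiv k i p

/-- The linear part evaluated at `v`. -/
noncomputable def lc (v : Fin n → k) (p : PS) : k := constantCoeff (D v p)

theorem lc_eq (v : Fin n → k) (p : PS) : lc v p = ∑ i, v i * lin p i := by simp [lc, D, lin]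

theorem D_add (v : Fin n → k) (p q : PS) : D v (p + q) = D v p + D v q := by
  simp [D, mul_add, Finset.sum_add_distrib]

theorem D_mul (v : Fin n → k) (p q : PS) : D v (p * q) = D v p * q + p * D v q := by
  simp only [D, Finset.sum_mul, Finset.mul_sum, ← Finset.sum_add_distrib]
  exact Finset.sum_congr rfl fun i _ => by rw [Derivation.leibniz, smul_eq_mul, smul_eq_mul]; ring

theorem D_C (v : Fin n → k) (r : k) : D v (C r) = 0 := by simp [D]

theorem D_zero (v : Fin n → k) : D v (0 : PS) = 0 := by simp [D]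

theorem lc_add (v : Fin n → k) (p q : PS) : lc v (p + q) = lc v p + lc v q := by simp [lc, D_add]

theorem lc_mul (v : Fin n → k) (p q : PS) :
    lc v (p * q) = lc v p * constantCoeff q + constantCoeff p * lc v q := by simp [lc, D_mul]

theorem lc_C (v : Fin n → k) (r : k) : lc v (C r : PS) = 0 := by simp [lc, D_C]

theorem lin_add (p q : PS) : lin (p + q) = lin p + lin q := by ext i; simp [lin]

theorem lin_sub (p q : PS) : lin (p - q) = lin p - lin q := by ext i; simp [lin]

theorem lin_sum {ι : Type*} (s : Finset ι) (p : ι → PS) : lin (∑ a ∈ s, p a) = ∑ a ∈ s, lin (p a) := by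
  ext i; simp [lin, map_sum]

theorem lin_C_mul (r : k) (p : PS) : lin (C r * p) = r • lin p := by
  ext i; simp [lin, Derivation.leibniz]

theorem lin_X (i : Fin n) : lin (X i : PS) = Pi.single i 1 := by
  classical
  ext j
  rcases eq_or_ne j i with rfl | h
  · simp [lin, pderiv_X_self]
  · simp [lin, pderiv_X_of_ne h.symm, h]

theorem lin_mul_mem {p q : PS} (hp : p ∈ 𝔪) : lin (p * q) = constantCoeff q • lin p := by
  ext i; simp [lin, Derivation.leibniz, mem_m.1 hp]

theorem lin_sq {p : PS} (hp : p ∈ 𝔪 ^ 2) : lin p = 0 := by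
  rw [pow_two] at hp
  induction hp using Submodule.mul_induction_on' with
  | mem_mul_mem a ha b hb => rw [lin_mul_mem ha, mem_m.1 hb, zero_smul]
  | add a _ b _ ha hb => rw [lin_add, ha, hb, add_zero]

theorem mem_sq {p : PS} (hp : p ∈ 𝔪) (h : lin p = 0) : p ∈ 𝔪 ^ 2 := by
  classical
  refine EGA43.HenselCompare.mem_pow_of_ordGE fun d hd => ?_
  rcases Nat.lt_succ_iff.1 hd |>.lt_or_eq with h0 | h1
  · rw [Finsupp.degree_eq_zero_iff d |>.1 (by omega), coeff_zero_eq_constantCoeff_apply]
    exact mem_m.1 hp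
  · obtain ⟨i, rfl⟩ : ∃ i, d = Finsupp.single i 1 := by
      have hd0 : d ≠ 0 := by rintro rfl; simp at h1
      obtain ⟨i, hi⟩ := Finsupp.ne_iff.1 hd0
      simp only [Finsupp.coe_zero, Pi.zero_apply] at hi
      have hle : Finsupp.single i 1 ≤ d := Finsupp.single_le_iff.2 (Nat.one_le_iff_ne_zero.2 hi)
      obtain ⟨e, rfl⟩ := exists_add_of_le hle
      rw [map_add, Finsupp.degree_single] at h1
      exact ⟨i, by rw [(Finsupp.degree_eq_zero_iff e).1 (by omega), add_zero]⟩
    have := congrFun h i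
    rw [lin, ← coeff_zero_eq_constantCoeff_apply, coeff_pderiv] at this
    simpa using this

theorem decomp {p : PS} (hp : p ∈ 𝔪) : p - ∑ i, C (lin p i) * X i ∈ 𝔪 ^ 2 := by
  classical
  refine mem_sq (sub_mem hp (Ideal.sum_mem _ fun i _ => Ideal.mul_mem_left _ _ (mem_m.2 (by simp)))) ?_
  rw [lin_sub, lin_sum]
  refine sub_eq_zero.2 (funext fun j => ?_)
  simp [lin_C_mul, lin_X, Finset.sum_apply, Pi.single_apply]

theorem D_mem {p : PS} (hp : p ∈ 𝔪 ^ 2) (v : Fin n → k) : D v p ∈ 𝔪 :=
  mem_m.2 (show lc v p = 0 by simp [lc_eq, lin_sq hp])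

theorem lc_D_mul (v w : Fin n → k) {p q : PS} (hp : p ∈ 𝔪) (hq : q ∈ 𝔪) :
    lc v (D w (p * q)) = lc w p * lc v q + lc v p * lc w q := by
  rw [D_mul, lc_add, lc_mul, lc_mul, mem_m.1 hp, mem_m.1 hq]
  simp [lc]

theorem lc_D_cube (v w : Fin n → k) {p : PS} (hp : p ∈ 𝔪 ^ 3) : lc v (D w p) = 0 := by
  rw [pow_succ] at hp
  induction hp using Submodule.mul_induction_on' with
  | mem_mul_mem a ha b hb =>
    rw [lc_D_mul v w (Ideal.pow_le_self two_ne_zero ha) hb, lc_eq, lc_eq v a, lin_sq ha]
    simp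
  | add a _ b _ ha hb => rw [D_add, lc_add, ha, hb, add_zero]

theorem lc_D_C_mul (v w : Fin n → k) (r : k) (p : PS) : lc v (D w (C r * p)) = r * lc v (D w p) := by
  rw [D_mul, D_C, zero_mul, zero_add, lc_mul, lc_C, zero_mul, zero_add, constantCoeff_C]

theorem det_sum_rows {R : Type u} [CommRing R] {ι α : Type*} [Fintype ι] [DecidableEq ι] [Fintype α]
    [DecidableEq α] (c : ι → α → R) (M : α → ι → R) :
    (Matrix.of fun i j => ∑ a, c i a * M a j).det =
      ∑ r : ι → α, (∏ i, c i (r i)) * (Matrix.of fun i j => M (r i) j).det := by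
  have h1 : (Matrix.of fun i j => ∑ a, c i a * M a j) = (fun i => ∑ a, c i a • M a : ι → ι → R) := by
    ext i j; simp [Finset.sum_apply]
  calc (Matrix.of fun i j => ∑ a, c i a * M a j).det
      = Matrix.detRowAlternating.toMultilinearMap (fun i => ∑ a, c i a • M a) := by rw [h1]; rfl
    _ = ∑ r : ι → α, Matrix.detRowAlternating.toMultilinearMap (fun i => c i (r i) • M (r i)) :=
        MultilinearMap.map_sum _ _
    _ = _ := Finset.sum_congr rfl fun r _ => by rw [MultilinearMap.map_smul_univ, smul_eq_mul]; rfl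

/-- The ideal of minors plus the ideal. -/
noncomputable def J (f : Fin m → PS) : Ideal PS :=
  Ideal.span {d : PS | ∃ (ρ : Fin (n - 1) → Fin m) (γ : Fin (n - 1) → Fin n), Function.Injective ρ ∧
    Function.Injective γ ∧
      d = ((Matrix.of fun (j : Fin m) (i : Fin n) => pderiv k i (f j)).submatrix ρ γ).det} ⊔
    Ideal.span (Set.range f)

theorem det_mem_J (f : Fin m → PS) (g : Fin (n - 1) → PS) (hg : ∀ l, g l ∈ Ideal.span (Set.range f))
    (v : Fin (n - 1) → Fin n → k) : (Matrix.of fun l j => D (v j) (g l)).det ∈ J f := by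
  classical
  let π := Ideal.Quotient.mk (J f)
  rw [← Ideal.Quotient.eq_zero_iff_mem]
  show π _ = 0
  have hI : ∀ j, π (f j) = 0 := fun j =>
    Ideal.Quotient.eq_zero_iff_mem.2 (Ideal.mem_sup_right (Ideal.subset_span ⟨j, rfl⟩))
  choose c hc using fun l => Ideal.mem_span_range_iff_exists_fun.1 (hg l)
  have e1 : π.mapMatrix (Matrix.of fun l j => D (v j) (g l)) =
      Matrix.of fun l j => ∑ a, π (c l a) * ∑ i, π (C (v j i)) * π (pderiv k i (f a)) := by
    ext l j
    rw [RingHom.mapMatrix_apply, Matrix.map_apply, Matrix.of_apply, Matrix.of_apply, ← hc l]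
    simp only [D, map_sum, map_mul, Derivation.leibniz, map_add, smul_eq_mul, hI, zero_mul, add_zero,
      Finset.mul_sum]
    rw [Finset.sum_comm]
    exact Finset.sum_congr rfl fun a _ => Finset.sum_congr rfl fun i _ => by ring
  rw [RingHom.map_det, e1, det_sum_rows]
  refine Finset.sum_eq_zero fun r _ => mul_eq_zero_of_right _ ?_
  rw [← Matrix.det_transpose]
  show (Matrix.of fun j l => ∑ i, π (C (v j i)) * π (pderiv k i (f (r l)))).det = 0
  rw [det_sum_rows (fun j i => π (C (v j i))) (fun i l => π (pderiv k i (f (r l))))]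
  refine Finset.sum_eq_zero fun γ _ => mul_eq_zero_of_right _ ?_
  rw [← Matrix.det_transpose]
  show (Matrix.of fun l j => π (pderiv k (γ j) (f (r l)))).det = 0
  by_cases hr : Function.Injective r
  · by_cases hγ : Function.Injective γ
    · have hmem : ((Matrix.of fun (j : Fin m) (i : Fin n) => pderiv k i (f j)).submatrix r γ).det ∈ J f :=
        Ideal.mem_sup_left (Ideal.subset_span ⟨r, γ, hr, hγ, rfl⟩)
      rw [← Ideal.Quotient.eq_zero_iff_mem, RingHom.map_det] at hmem
      exact hmem
    · obtain ⟨a, b, hab, hne⟩ := Function.not_injective_iff.1 hγ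
      exact Matrix.det_zero_of_column_eq hne fun l => by simp [hab]
  · obtain ⟨a, b, hab, hne⟩ := Function.not_injective_iff.1 hr
    exact Matrix.det_zero_of_row_eq hne (funext fun l => by simp [hab])

/-- A Schur-complement congruence. -/
theorem det_sub_mem_sq {N : ℕ} (M : Matrix (Fin (N + 1)) (Fin (N + 1)) PS) (h0 : ∀ j, M 0 j ∈ 𝔪)
    (h1 : ∀ i, M i 0 ∈ 𝔪) (hone : ∀ i j : Fin N, constantCoeff (M i.succ j.succ) = if i = j then 1 else 0) :
    M.det - M 0 0 ∈ 𝔪 ^ 2 := by
  classical
  rw [Matrix.det_succ_row_zero, Fin.sum_univ_succ, add_sub_right_comm, pow_two]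
  refine add_mem ?_ (Ideal.sum_mem _ fun j _ => ?_)
  · rw [Fin.val_zero, pow_zero, one_mul, ← mul_sub_one]
    refine Ideal.mul_mem_mul (h0 0) (mem_m.2 ?_)
    rw [map_sub, map_one, sub_eq_zero, RingHom.map_det]
    refine (congrArg Matrix.det ?_).trans Matrix.det_one
    ext i l
    simpa [Matrix.one_apply] using hone i l
  · rw [mul_assoc]
    refine Ideal.mul_mem_left _ _ (Ideal.mul_mem_mul (h0 _) ?_)
    rcases N with _ | N
    · exact j.elim0
    rw [Matrix.det_succ_column_zero]
    refine Ideal.sum_mem _ fun i _ => Ideal.mul_mem_right _ _ (Ideal.mul_mem_left _ _ ?_)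
    rw [Matrix.submatrix_apply, Fin.succ_succAbove_zero]
    exact h1 _

end Groth.Agent.NodeMinors9
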