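import Groth.Agent.NodeMinors9.Basic

/-!
# Frames of the tangent space and the Jacobian minors
-/

set_option autoImplicit false
set_option linter.style.haveILetI false
set_option maxHeartbeats 1000000

universe u

open IsLocalRing MvPowerSeries

namespace Groth.Agent.NodeMinors9

variable {k : Type u} [Field k] {n m : ℕ}

local notation "PS" => MvPowerSeries (Fin n) k
local notation "𝔪" => maximalIdeal (MvPowerSeries (Fin n) k)

/-- The linear part as a linear map. -/
noncomputable def linM : MvPowerSeries (Fin n) k →ₗ[k] (Fin n → k) :=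
  LinearMap.pi fun i => (MvPowerSeries.coeff 0).comp (pderiv k i).toLinearMap

theorem linM_apply (p : PS) : linM p = lin p := by
  ext i; simp [linM, lin]

/-- The space of linear parts of an ideal. -/
noncomputable def linSpan (I : Ideal (MvPowerSeries (Fin n) k)) : Submodule k (Fin n → k) :=
  (I.restrictScalars k).map linM

theorem mem_linSpan {I : Ideal PS} {l : Fin n → k} : l ∈ linSpan I ↔ ∃ h ∈ I, lin h = l := by
  simp [linSpan, Submodule.mem_map, linM_apply]

theorem card_le_finrank {ι : Type*} [Fintype ι] {I : Ideal PS} (h : ι → PS) (hh : ∀ l, h l ∈ I)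
    (hli : LinearIndependent k fun l => lin (h l)) : Fintype.card ι ≤ Module.finrank k (linSpan I) := by
  have : LinearIndependent k fun l => (⟨lin (h l), mem_linSpan.2 ⟨h l, hh l, rfl⟩⟩ : linSpan I) :=
    LinearIndependent.of_comp (linSpan I).subtype hli
  exact this.fintype_card_le_finrank

theorem exists_dual {ι : Type*} [Fintype ι] [DecidableEq ι] (e : ι → Fin n → k) (he : LinearIndependent k e) :
    ∃ v : ι → Fin n → k, ∀ j l, ∑ i, v j i * e l i = if l = j then 1 else 0 := by
  classical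
  obtain ⟨Ψ, hΨ⟩ := (Fintype.linearCombination k e).exists_leftInverse_of_injective
    (LinearMap.ker_eq_bot.2 he.fintypeLinearCombination_injective)
  refine ⟨fun j i => Ψ (Pi.single i 1) j, fun j l => ?_⟩
  have h1 : e l = Fintype.linearCombination k e (Pi.single l 1) := by
    simp [Fintype.linearCombination_apply, Pi.single_apply]
  have h2 : Ψ (e l) = Pi.single l 1 := by rw [h1, ← LinearMap.comp_apply, hΨ, LinearMap.id_apply]
  calc ∑ i, Ψ (Pi.single i 1) j * e l i = Ψ (e l) j := by
        conv_rhs => rw [pi_eq_sum_univ' (e l)]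
        simp [Finset.sum_apply, mul_comm]
    _ = _ := by rw [h2, Pi.single_apply]; simp [eq_comm]

/-- A minor reduces, modulo `m²`, to a derivative of one element of `I ∩ m²`. -/
theorem minor_analysis (f : Fin m → PS) (hfm : ∀ j, f j ∈ 𝔪)
    (hr : Module.finrank k (linSpan (Ideal.span (Set.range f))) + 2 ≤ n)
    (ρ : Fin (n - 1) → Fin m) (γ : Fin (n - 1) → Fin n) :
    ∃ g ∈ Ideal.span (Set.range f), g ∈ 𝔪 ^ 2 ∧ ∃ w : Fin n → k,
      (∀ h ∈ Ideal.span (Set.range f), lc w h = 0) ∧
      ((Matrix.of fun (j : Fin m) (i : Fin n) => pderiv k i (f j)).submatrix ρ γ).det ∈ 𝔪 ∧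
      (∀ v, lc v ((Matrix.of fun (j : Fin m) (i : Fin n) => pderiv k i (f j)).submatrix ρ γ).det = lc v (D w g)) ∧
      (Module.finrank k (linSpan (Ideal.span (Set.range f))) + 3 ≤ n → w = 0) := by
  classical
  set I := Ideal.span (Set.range f)
  set M := (Matrix.of fun (j : Fin m) (i : Fin n) => pderiv k i (f j)).submatrix ρ γ with hM
  have hρ : ∀ l, f (ρ l) ∈ I := fun l => Ideal.subset_span ⟨ρ l, rfl⟩
  obtain ⟨c, hc, l₀, hl₀⟩ := Fintype.not_linearIndependent_iff.1 fun hli => absurd
    (card_le_finrank (fun l => f (ρ l)) hρ hli) (by rw [Fintype.card_fin]; omega)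
  let c' : Fin (n - 1) → k := fun l => c l / c l₀
  have hc' : c' l₀ = 1 := div_self hl₀
  let g := ∑ l, C (c' l) * f (ρ l)
  have hgI : g ∈ I := Ideal.sum_mem _ fun l _ => Ideal.mul_mem_left _ _ (hρ l)
  have hg2 : g ∈ 𝔪 ^ 2 := by
    refine mem_sq (Ideal.sum_mem _ fun l _ => Ideal.mul_mem_left _ _ (hfm _)) ?_
    rw [lin_sum]
    simp only [lin_C_mul]
    calc ∑ l, c' l • lin (f (ρ l)) = (c l₀)⁻¹ • ∑ l, c l • lin (f (ρ l)) := by
          rw [Finset.smul_sum]
          exact Finset.sum_congr rfl fun l _ => by rw [smul_smul, inv_mul_eq_div]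
      _ = 0 := by rw [hc, smul_zero]
  let u : Fin (n - 1) → PS := fun j => pderiv k (γ j) g
  have hu : ∀ j, u j ∈ 𝔪 := fun j => mem_m.2 (congrFun (lin_sq hg2) (γ j))
  let cof : Fin (n - 1) → PS := fun j => Matrix.adjugate M j l₀
  have hsum : u = ∑ l, (C (c' l) : PS) • M l := by
    funext j
    simp [u, g, hM, map_sum, Derivation.leibniz, Finset.sum_apply]
  have hexp : ∀ z : Fin (n - 1) → PS, (M.updateRow l₀ z).det = ∑ j, z j * cof j := fun z => by
    rw [Matrix.det_eq_sum_mul_adjugate_row _ l₀]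
    refine Finset.sum_congr rfl fun j _ => ?_
    rw [Matrix.updateRow_self, Matrix.adjugate_apply, Matrix.updateRow_idem]
    exact congrArg _ (Matrix.adjugate_apply _ _ _).symm
  have hdet : M.det = ∑ j, u j * cof j := by
    rw [← hexp, hsum, Matrix.det_updateRow_sum, hc', map_one, one_smul]
  let w : Fin n → k := ∑ j, constantCoeff (cof j) • Pi.single (γ j) 1
  have hwsum : ∀ z : Fin n → k, ∑ i, w i * z i = ∑ j, constantCoeff (cof j) * z (γ j) := fun z => by
    simp only [w, Finset.sum_apply, Pi.smul_apply, smul_eq_mul, Finset.sum_mul]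
    rw [Finset.sum_comm]
    exact Finset.sum_congr rfl fun j _ => by simp [Pi.single_apply]
  refine ⟨g, hgI, hg2, w, fun h hh => ?_, ?_, fun v => ?_, fun h3 => ?_⟩
  · rw [lc_eq, hwsum]
    calc ∑ j, constantCoeff (cof j) * lin h (γ j) =
        constantCoeff ((M.updateRow l₀ fun j => pderiv k (γ j) h).det) := by
          rw [hexp, map_sum]; exact Finset.sum_congr rfl fun j _ => by rw [map_mul, mul_comm]; rfl
      _ = 0 := by
        rw [RingHom.map_det]
        by_contra hne
        have hrows := Matrix.linearIndependent_rows_of_det_ne_zero hne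
        let e : Fin (n - 1) → PS := Function.update (fun l => f (ρ l)) l₀ h
        refine absurd (card_le_finrank (I := I) e (fun l => ?_) (LinearIndependent.of_comp
          (LinearMap.funLeft k k γ) ?_)) (by rw [Fintype.card_fin]; omega)
        · rcases eq_or_ne l l₀ with rfl | hl
          · simpa [e] using hh
          · simpa [e, hl] using hρ l
        · convert hrows using 1
          case e'_5 => rfl
          funext l j
          rcases eq_or_ne l l₀ with rfl | hl
          · simp [e, lin]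
          · simp [e, hl, lin, hM]
  · rw [hdet]; exact Ideal.sum_mem _ fun j _ => Ideal.mul_mem_right _ _ (hu j)
  · rw [hdet]
    have h1 : ∀ (s : Finset (Fin (n - 1))) (F : Fin (n - 1) → PS), lc v (∑ j ∈ s, F j) = ∑ j ∈ s, lc v (F j) :=
      fun s F => map_sum (AddMonoidHom.mk' (lc v) (lc_add v)) F s
    rw [h1]
    have h2 : lc v (D w g) = ∑ i, w i * lc v (pderiv k i g) := by
      rw [D, show lc v (∑ i, C (w i) * pderiv k i g) = ∑ i, lc v (C (w i) * pderiv k i g) from
        map_sum (AddMonoidHom.mk' (lc v) (lc_add v)) _ _]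
      exact Finset.sum_congr rfl fun i _ => by rw [lc_mul, lc_C, zero_mul, zero_add, constantCoeff_C]
    rw [h2, hwsum]
    exact Finset.sum_congr rfl fun j _ => by rw [lc_mul, mem_m.1 (hu j), zero_mul, add_zero, mul_comm]
  · refine Finset.sum_eq_zero fun j _ => ?_
    rw [show constantCoeff (cof j) = 0 from ?_, zero_smul]
    show constantCoeff (Matrix.adjugate M j l₀) = 0
    rw [Matrix.adjugate_apply, RingHom.map_det]
    by_contra hne
    have hrows := (Matrix.linearIndependent_rows_of_det_ne_zero hne).comp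
      (fun l : {l : Fin (n - 1) // l ≠ l₀} => l.1) Subtype.val_injective
    refine absurd (card_le_finrank (fun l : {l : Fin (n - 1) // l ≠ l₀} => f (ρ l.1)) (fun l => hρ l.1)
      (LinearIndependent.of_comp (LinearMap.funLeft k k γ) ?_))
      (by simp only [Fintype.card_subtype_compl, Fintype.card_fin, Fintype.card_subtype_eq]; omega)
    convert hrows using 1
    case e'_5 => rfl
    funext l i
    simp [lin, hM, l.2]

/-- Two elements spanning the tangent space of `PS ⧸ I`, with the coordinates of the variables. -/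
structure Frame (I : Ideal (MvPowerSeries (Fin n) k)) (x y : MvPowerSeries (Fin n) k) (α β : Fin n → k) : Prop where
  xm : x ∈ maximalIdeal (MvPowerSeries (Fin n) k)
  ym : y ∈ maximalIdeal (MvPowerSeries (Fin n) k)
  le : I ≤ maximalIdeal (MvPowerSeries (Fin n) k)
  hX : ∀ i, X i - (C (α i) * x + C (β i) * y) ∈ I ⊔ maximalIdeal (MvPowerSeries (Fin n) k) ^ 2
  indep : ∀ r s : k, C r * x + C s * y ∈ I ⊔ maximalIdeal (MvPowerSeries (Fin n) k) ^ 2 → r = 0 ∧ s = 0

namespace Frame

variable {I : Ideal (MvPowerSeries (Fin n) k)} {x y : MvPowerSeries (Fin n) k} {α β : Fin n → k}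

theorem approx (F : Frame I x y α β) {p : PS} (hp : p ∈ 𝔪) :
    p - (C (lc α p) * x + C (lc β p) * y) ∈ I ⊔ 𝔪 ^ 2 := by
  have e : p - (C (lc α p) * x + C (lc β p) * y) =
      (p - ∑ i, C (lin p i) * X i) + ∑ i, C (lin p i) * (X i - (C (α i) * x + C (β i) * y)) := by
    simp only [lc_eq, map_sum, map_mul, mul_sub, mul_add, Finset.sum_sub_distrib, Finset.sum_add_distrib,
      Finset.sum_mul]
    simp only [mul_comm, mul_left_comm]
    ring
  rw [e]
  exact add_mem (Ideal.mem_sup_right (decomp hp)) (Ideal.sum_mem _ fun i _ => Ideal.mul_mem_left _ _ (F.hX i))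

theorem uniq (F : Frame I x y α β) {p : PS} (hp : p ∈ 𝔪) {r s : k}
    (h : C r * x + C s * y - p ∈ I ⊔ 𝔪 ^ 2) : lc α p = r ∧ lc β p = s := by
  have := F.indep (r - lc α p) (s - lc β p) (by
    rw [show C (r - lc α p) * x + C (s - lc β p) * y =
      (C r * x + C s * y - p) + (p - (C (lc α p) * x + C (lc β p) * y)) by rw [map_sub, map_sub]; ring]
    exact add_mem h (F.approx hp))
  exact ⟨(sub_eq_zero.1 this.1).symm, (sub_eq_zero.1 this.2).symm⟩

theorem lc_mem (F : Frame I x y α β) {h : PS} (hh : h ∈ I) : lc α h = 0 ∧ lc β h = 0 :=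
  F.uniq (F.le hh) (by simpa using neg_mem (Ideal.mem_sup_left hh : h ∈ I ⊔ 𝔪 ^ 2))

theorem lc_x (F : Frame I x y α β) : lc α x = 1 ∧ lc β x = 0 := F.uniq F.xm (by simp)

theorem lc_y (F : Frame I x y α β) : lc α y = 0 ∧ lc β y = 1 := F.uniq F.ym (by simp)

theorem finrank_linSpan (F : Frame I x y α β) : Module.finrank k (linSpan I) + 2 = n := by
  let ψ : (Fin n → k) →ₗ[k] (Fin 2 → k) := Matrix.mulVecLin (Matrix.of ![α, β])
  have hψ : ∀ p : PS, ψ (lin p) = ![lc α p, lc β p] := fun p => by
    ext j; fin_cases j <;> simp [ψ, Matrix.mulVec, dotProduct, lc_eq]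
  have hker : LinearMap.ker ψ = linSpan I := by
    refine le_antisymm (fun l hl => mem_linSpan.2 ?_) fun l hl => ?_
    · have hl0 : (∑ i, α i * l i) = 0 ∧ (∑ i, β i * l i) = 0 :=
        ⟨by simpa [ψ, Matrix.mulVec, dotProduct] using congrFun hl 0,
          by simpa [ψ, Matrix.mulVec, dotProduct] using congrFun hl 1⟩
      let p : PS := ∑ i, C (l i) * X i
      have hlp : lin p = l := by
        funext j; simp [p, lin_sum, lin_C_mul, lin_X, Finset.sum_apply, Pi.single_apply]
      have hpm : p ∈ 𝔪 := Ideal.sum_mem _ fun i _ => Ideal.mul_mem_left _ _ (mem_m.2 (by simp))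
      have := F.approx hpm
      rw [lc_eq, lc_eq, hlp, hl0.1, hl0.2, map_zero, zero_mul, zero_mul, add_zero, sub_zero] at this
      obtain ⟨h, hh, q, hq, hhq⟩ := Submodule.mem_sup.1 this
      exact ⟨h, hh, by rw [← hlp, ← hhq, lin_add, lin_sq hq, add_zero]⟩
    · obtain ⟨h, hh, rfl⟩ := mem_linSpan.1 hl
      rw [LinearMap.mem_ker, hψ, (F.lc_mem hh).1, (F.lc_mem hh).2]
      ext j; fin_cases j <;> rfl
  have hsurj : Function.Surjective ψ := fun t => ⟨t 0 • lin x + t 1 • lin y, by
    rw [map_add, map_smul, map_smul, hψ, hψ, F.lc_x.1, F.lc_x.2, F.lc_y.1, F.lc_y.2]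
    ext j; fin_cases j <;> simp⟩
  have := LinearMap.finrank_range_add_finrank_ker ψ
  rw [LinearMap.range_eq_top.2 hsurj, finrank_top, hker, Module.finrank_fintype_fun_eq_card,
    Module.finrank_fintype_fun_eq_card, Fintype.card_fin, Fintype.card_fin] at this
  omega

/-- An annihilator of the linear parts is a combination of `α` and `β`. -/
theorem ann_eq (F : Frame I x y α β) {w : Fin n → k} (hw : ∀ h ∈ I, lc w h = 0) :
    w = lc w x • α + lc w y • β := by
  classical
  funext i
  obtain ⟨h, hh, q, hq, hhq⟩ := Submodule.mem_sup.1 (F.hX i)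
  have := congrArg (lc w) hhq
  rw [lc_add, hw h hh, lc_eq w q, lin_sq hq] at this
  rw [lc_eq w (X i - _), lin_sub, lin_add, lin_X, lin_C_mul, lin_C_mul] at this
  simp only [Pi.zero_apply, mul_zero, Finset.sum_const_zero, add_zero, Pi.sub_apply, Pi.add_apply,
    Pi.smul_apply, smul_eq_mul, mul_sub, mul_add, Finset.sum_sub_distrib, Finset.sum_add_distrib] at this
  simp only [Pi.single_apply, mul_ite, mul_one, mul_zero, Finset.sum_ite_eq', Finset.mem_univ, if_true,
    mul_left_comm, ← Finset.mul_sum, ← lc_eq] at this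
  simp only [Pi.add_apply, Pi.smul_apply, smul_eq_mul]
  linear_combination -this

theorem quad (F : Frame I x y α β) {g : PS} (hg : g ∈ 𝔪 ^ 2) : ∃ a b c : k,
    g - (C a * x ^ 2 + C b * x * y + C c * y ^ 2) ∈ I ⊔ 𝔪 ^ 3 ∧ lc α (D α g) = 2 * a ∧
      lc α (D β g) = b ∧ lc β (D α g) = b ∧ lc β (D β g) = 2 * c := by
  rw [pow_two] at hg
  induction hg using Submodule.mul_induction_on' with
  | mem_mul_mem p hp q hq =>
    have hle : ∀ {z w : PS}, z ∈ I ⊔ 𝔪 ^ 2 → w ∈ 𝔪 → z * w ∈ I ⊔ 𝔪 ^ 3 := fun hz hw => by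
      obtain ⟨h, hh, r, hr, rfl⟩ := Submodule.mem_sup.1 hz
      rw [add_mul, pow_succ]
      exact add_mem (Ideal.mem_sup_left (Ideal.mul_mem_right _ _ hh)) (Ideal.mem_sup_right (Ideal.mul_mem_mul hr hw))
    refine ⟨lc α p * lc α q, lc α p * lc β q + lc β p * lc α q, lc β p * lc β q, ?_, ?_, ?_, ?_, ?_⟩
    · have e : p * q - (C (lc α p * lc α q) * x ^ 2 + C (lc α p * lc β q + lc β p * lc α q) * x * y +
          C (lc β p * lc β q) * y ^ 2) = (p - (C (lc α p) * x + C (lc β p) * y)) * q +
          (q - (C (lc α q) * x + C (lc β q) * y)) * (C (lc α p) * x + C (lc β p) * y) := by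
        simp only [map_add, map_mul]; ring
      rw [e]
      exact add_mem (hle (F.approx hp) hq) (hle (F.approx hq)
        (add_mem (Ideal.mul_mem_left _ _ F.xm) (Ideal.mul_mem_left _ _ F.ym)))
    all_goals (rw [lc_D_mul _ _ hp hq] <;> ring)
  | add g₁ _ g₂ _ h₁ h₂ =>
    obtain ⟨a, b, c, e, e1, e2, e3, e4⟩ := h₁
    obtain ⟨a', b', c', e', e1', e2', e3', e4'⟩ := h₂
    refine ⟨a + a', b + b', c + c', ?_, ?_, ?_, ?_, ?_⟩
    · convert add_mem e e' using 1
      simp only [map_add]; ring
    all_goals rw [D_add, lc_add]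
    · rw [e1, e1']; ring
    · rw [e2, e2']
    · rw [e3, e3']
    · rw [e4, e4']; ring

end Frame

end Groth.Agent.NodeMinors9
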