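import Groth.Agent.NodeMinors9.Frame
import Groth.Agent.CommAlg4.NodeCompletion
import Groth.Agent.NodeLib7.FromCompletion
import Mathlib

/-!
# The Jacobian criterion for a node
-/

set_option autoImplicit false
set_option linter.style.haveILetI false
set_option maxHeartbeats 1000000

universe u

open IsLocalRing MvPowerSeries

namespace Groth.Agent.NodeMinors9

open NodeLib7

variable {k : Type u} [Field k] {n m : ℕ}

local notation "PS" => MvPowerSeries (Fin n) k
local notation "𝔪" => maximalIdeal (MvPowerSeries (Fin n) k)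

/-- `m²` cannot be principal when `m` needs two generators and contains a regular element. -/
theorem not_sq_principal {B : Type u} [CommRing B] [IsLocalRing B] [IsNoetherianRing B] {x y : B}
    (hspan : Ideal.span {x, y} = maximalIdeal B)
    (hind : ∀ r s : B, r * x + s * y ∈ maximalIdeal B ^ 2 → r ∈ maximalIdeal B ∧ s ∈ maximalIdeal B)
    {t : B} (htm : t ∈ maximalIdeal B) (ht : ∀ z, t * z = 0 → z = 0) {p q : B} (hp : p ∈ maximalIdeal B)
    (hq : q ∈ maximalIdeal B) (hle : maximalIdeal B ^ 2 ≤ Ideal.span {p * q} ⊔ maximalIdeal B ^ 3) : False := by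
  have h2 : maximalIdeal B ^ 2 ≤ Ideal.span {p * q} := by
    refine Submodule.le_of_le_smul_of_le_jacobson_bot (I := maximalIdeal B) (IsNoetherian.noetherian _)
      (IsLocalRing.maximalIdeal_le_jacobson _) ?_
    rw [smul_eq_mul, ← pow_succ']
    exact hle
  have hmem : ∀ {u v : B}, u ∈ maximalIdeal B → v ∈ maximalIdeal B → ∃ l, l * (p * q) = u * v := fun hu hv =>
    Ideal.mem_span_singleton'.1 (h2 (by rw [pow_two]; exact Ideal.mul_mem_mul hu hv))
  obtain ⟨w, hw⟩ := hmem htm htm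
  have hzreg : ∀ z, (p * q) * z = 0 → z = 0 := fun z hz => ht z (ht (t * z) (by
    rw [← mul_assoc, ← hw, mul_assoc, hz, mul_zero]))
  have hgen : ∀ r ∈ maximalIdeal B, ∃ l, l * q = r := fun r hr => by
    obtain ⟨l, hl⟩ := hmem hr hp
    refine ⟨l, sub_eq_zero.1 (hzreg _ ?_)⟩
    linear_combination q * hl
  have hxm : x ∈ maximalIdeal B := hspan ▸ Ideal.subset_span (by simp)
  have hym : y ∈ maximalIdeal B := hspan ▸ Ideal.subset_span (by simp)
  obtain ⟨l₁, hl₁⟩ := hgen x hxm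
  obtain ⟨l₂, hl₂⟩ := hgen y hym
  obtain ⟨u, v, huv⟩ := Ideal.mem_span_pair.1 (hspan.symm ▸ hq)
  obtain ⟨h1, h1'⟩ := hind (1 - l₁ * u) (-(l₁ * v)) (by
    rw [show (1 - l₁ * u) * x + -(l₁ * v) * y = 0 by linear_combination -hl₁ - l₁ * huv]
    exact zero_mem _)
  obtain ⟨h2', h2''⟩ := hind (-(l₂ * u)) (1 - l₂ * v) (by
    rw [show -(l₂ * u) * x + (1 - l₂ * v) * y = 0 by linear_combination -hl₂ - l₂ * huv]
    exact zero_mem _)
  have hl₁' : l₁ * u ∉ maximalIdeal B := fun h => (maximalIdeal.isMaximal B).ne_top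
    ((Ideal.eq_top_iff_one _).2 (by simpa using add_mem h1 h))
  have hv : v ∈ maximalIdeal B :=
    ((maximalIdeal.isMaximal B).isPrime.mem_or_mem (neg_mem_iff.1 h1')).resolve_left
      fun h => hl₁' (Ideal.mul_mem_right _ _ h)
  exact (maximalIdeal.isMaximal B).ne_top ((Ideal.eq_top_iff_one _).2
    (by simpa using add_mem h2'' (Ideal.mul_mem_left _ l₂ hv)))

theorem exists_frame (f : Fin m → PS) (hfm : ∀ j, f j ∈ 𝔪) (hJ : J f = 𝔪) :
    ∃ (x y : PS) (α β : Fin n → k), Frame (Ideal.span (Set.range f)) x y α β := by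
  classical
  set I := Ideal.span (Set.range f)
  have hIm : I ≤ 𝔪 := Ideal.span_le.2 fun _ ⟨j, hj⟩ => hj ▸ hfm j
  have hr : Module.finrank k (linSpan I) + 2 ≤ n := by
    by_contra hlt
    push Not at hlt
    let b := Module.finBasis k (linSpan I)
    let e : Fin (n - 1) → Fin n → k := fun l => ((b (Fin.castLE (by omega) l) : linSpan I) : Fin n → k)
    have he : LinearIndependent k e :=
      (b.linearIndependent.map' (linSpan I).subtype (Submodule.ker_subtype _)).comp _ (Fin.castLE_injective _)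
    choose h hh hlin using fun l : Fin (n - 1) => mem_linSpan.1 (b (Fin.castLE (by omega) l) : linSpan I).2
    obtain ⟨v, hv⟩ := exists_dual e he
    have hmem : (Matrix.of fun l j => D (v j) (h l)).det ∈ 𝔪 := hJ ▸ det_mem_J f h hh v
    rw [mem_m, RingHom.map_det] at hmem
    refine one_ne_zero (α := k) ?_
    rw [← hmem]
    refine (Matrix.det_one).symm.trans (congrArg Matrix.det ?_)
    ext l j
    show (1 : Matrix _ _ k) l j = lc (v j) (h l)
    rw [lc_eq, hlin, hv, Matrix.one_apply]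
  have h2 : Module.finrank k ((Fin n → k) ⧸ linSpan I) = 2 := by
    have := Submodule.finrank_quotient_add_finrank (linSpan I)
    rw [Module.finrank_fintype_fun_eq_card, Fintype.card_fin] at this
    by_contra hne
    have h3 : Module.finrank k (linSpan I) + 3 ≤ n := by omega
    have hJ2 : J f ≤ I ⊔ 𝔪 ^ 2 := by
      refine sup_le (Ideal.span_le.2 ?_) le_sup_left
      rintro _ ⟨ρ, γ, -, -, rfl⟩
      obtain ⟨g, -, -, w, -, hdm, hlc, hw⟩ := minor_analysis f hfm hr ρ γ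
      refine Ideal.mem_sup_right (mem_sq hdm (funext fun i => ?_))
      have := hlc (Pi.single i 1)
      rw [hw h3, lc_eq] at this
      simpa [D, lc, Pi.single_apply] using this
    have htop : linSpan I = ⊤ := eq_top_iff.2 fun l _ => by
      have hpm : (∑ i, C (l i) * X i : PS) ∈ 𝔪 :=
        Ideal.sum_mem _ fun i _ => Ideal.mul_mem_left _ _ (mem_m.2 (by simp))
      obtain ⟨h, hh, q, hq, hhq⟩ := Submodule.mem_sup.1 (hJ2 (hJ.symm ▸ hpm))
      refine mem_linSpan.2 ⟨h, hh, ?_⟩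
      have := congrArg lin hhq
      rw [lin_add, lin_sq hq, add_zero] at this
      rw [this]
      funext j
      simp [lin_sum, lin_C_mul, lin_X, Finset.sum_apply, Pi.single_apply]
    rw [htop, finrank_top, Module.finrank_fintype_fun_eq_card, Fintype.card_fin] at hr
    omega
  let ψ : (Fin n → k) →ₗ[k] (Fin 2 → k) :=
    (Module.finBasisOfFinrankEq k _ h2).equivFun.toLinearMap ∘ₗ (linSpan I).mkQ
  have hψs : Function.Surjective ψ :=
    (Module.finBasisOfFinrankEq k _ h2).equivFun.surjective.comp (linSpan I).mkQ_surjective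
  have hψ0 : ∀ l, ψ l = 0 ↔ l ∈ linSpan I := fun l => by
    simp [ψ, Submodule.Quotient.mk_eq_zero]
  obtain ⟨lx, hlx⟩ := hψs ![1, 0]
  obtain ⟨ly, hly⟩ := hψs ![0, 1]
  have hlin : ∀ l : Fin n → k, lin (∑ i, C (l i) * X i : PS) = l := fun l => by
    funext j; simp [lin_sum, lin_C_mul, lin_X, Finset.sum_apply, Pi.single_apply]
  have hm : ∀ l : Fin n → k, (∑ i, C (l i) * X i : PS) ∈ 𝔪 := fun l =>
    Ideal.sum_mem _ fun i _ => Ideal.mul_mem_left _ _ (mem_m.2 (by simp))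
  have hlift : ∀ p ∈ 𝔪, lin p ∈ linSpan I → p ∈ I ⊔ 𝔪 ^ 2 := fun p hp hl => by
    obtain ⟨h, hh, e⟩ := mem_linSpan.1 hl
    rw [show p = h + (p - h) by ring]
    exact add_mem (Ideal.mem_sup_left hh) (Ideal.mem_sup_right (mem_sq (sub_mem hp (hIm hh))
      (by rw [lin_sub, e, sub_self])))
  refine ⟨∑ i, C (lx i) * X i, ∑ i, C (ly i) * X i, fun i => ψ (Pi.single i 1) 0, fun i => ψ (Pi.single i 1) 1,
    ⟨hm lx, hm ly, hIm, fun i => ?_, fun r s hrs => ?_⟩⟩
  · refine hlift _ (sub_mem (mem_m.2 (by simp)) (add_mem (Ideal.mul_mem_left _ _ (hm lx))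
      (Ideal.mul_mem_left _ _ (hm ly)))) ((hψ0 _).1 ?_)
    rw [lin_sub, lin_add, lin_C_mul, lin_C_mul, hlin, hlin, lin_X, map_sub, map_add, map_smul, map_smul, hlx, hly]
    ext j; fin_cases j <;> simp
  · obtain ⟨h, hh, q, hq, hhq⟩ := Submodule.mem_sup.1 hrs
    have := congrArg (fun p => ψ (lin p)) hhq
    simp only [lin_add, lin_sq hq, add_zero, (hψ0 _).2 (mem_linSpan.2 ⟨h, hh, rfl⟩), lin_C_mul, hlin, map_add,
      map_smul, hlx, hly] at this
    exact ⟨by simpa using (congrFun this 0).symm, by simpa using (congrFun this 1).symm⟩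

theorem Frame.indep' {I : Ideal PS} {x y : PS} {α β : Fin n → k} (F : Frame I x y α β) (r s : PS)
    (h : r * x + s * y ∈ I ⊔ 𝔪 ^ 2) : r ∈ 𝔪 ∧ s ∈ 𝔪 := by
  obtain ⟨h1, h2⟩ := F.indep (constantCoeff r) (constantCoeff s) (by
    rw [show C (constantCoeff r) * x + C (constantCoeff s) * y =
      (r * x + s * y) - ((r - C (constantCoeff r)) * x + (s - C (constantCoeff s)) * y) by ring]
    refine sub_mem h (Ideal.mem_sup_right ?_)
    rw [pow_two]
    exact add_mem (Ideal.mul_mem_mul (mem_m.2 (by simp)) F.xm) (Ideal.mul_mem_mul (mem_m.2 (by simp)) F.ym))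
  exact ⟨mem_m.2 h1, mem_m.2 h2⟩

theorem map_maximal {I : Ideal PS} [IsLocalRing (PS ⧸ I)] :
    maximalIdeal (PS ⧸ I) = (𝔪).map (Ideal.Quotient.mk I) :=
  (IsLocalRing.map_maximalIdeal_of_surjective _ Ideal.Quotient.mk_surjective).symm

theorem mem_pow_quot {I : Ideal PS} [IsLocalRing (PS ⧸ I)] {p : PS} {j : ℕ} :
    Ideal.Quotient.mk I p ∈ maximalIdeal (PS ⧸ I) ^ j ↔ p ∈ I ⊔ 𝔪 ^ j := by
  rw [map_maximal, ← Ideal.map_pow, ← Ideal.mem_comap,
    Ideal.comap_map_of_surjective _ Ideal.Quotient.mk_surjective, ← RingHom.ker_eq_comap_bot, Ideal.mk_ker, sup_comm]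

theorem Frame.span_quot {I : Ideal PS} [IsLocalRing (PS ⧸ I)] {x y : PS} {α β : Fin n → k}
    (F : Frame I x y α β) :
    Ideal.span {Ideal.Quotient.mk I x, Ideal.Quotient.mk I y} = maximalIdeal (PS ⧸ I) := by
  refine NodeLib7.span_pair_eq (A := PS ⧸ I) ?_ ?_ fun z hz => ?_
  · rw [map_maximal]; exact Ideal.mem_map_of_mem _ F.xm
  · rw [map_maximal]; exact Ideal.mem_map_of_mem _ F.ym
  rw [map_maximal] at hz
  obtain ⟨p, hp, rfl⟩ := (Ideal.mem_map_iff_of_surjective _ Ideal.Quotient.mk_surjective).1 hz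
  rw [show p = (C (lc α p) * x + C (lc β p) * y) + (p - (C (lc α p) * x + C (lc β p) * y)) by ring,
    map_add, map_add, map_mul, map_mul]
  exact add_mem (Ideal.mem_sup_left (Ideal.mem_span_pair.2 ⟨_, _, rfl⟩))
    (Ideal.mem_sup_right (mem_pow_quot.2 (F.approx hp)))

/-- The minors generating the maximal ideal and a regular element give node data. -/
theorem exists_nodeData (f : Fin m → PS) (hfm : ∀ j, f j ∈ 𝔪) (hJ : J f = 𝔪)
    [IsLocalRing (PS ⧸ Ideal.span (Set.range f))]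
    (hreg : ∃ t ∈ maximalIdeal (PS ⧸ Ideal.span (Set.range f)), ∀ z, t * z = 0 → z = 0) :
    ∃ x y a b c : PS ⧸ Ideal.span (Set.range f), NodeData (PS ⧸ Ideal.span (Set.range f)) x y a b c := by
  classical
  obtain ⟨x, y, α, β, F⟩ := exists_frame f hfm hJ
  set I := Ideal.span (Set.range f) with hI
  let π := Ideal.Quotient.mk I
  have hind : ∀ r s : PS ⧸ I, r * π x + s * π y ∈ maximalIdeal (PS ⧸ I) ^ 2 →
      r ∈ maximalIdeal (PS ⧸ I) ∧ s ∈ maximalIdeal (PS ⧸ I) := by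
    intro r s hrs
    obtain ⟨r, rfl⟩ := Ideal.Quotient.mk_surjective r
    obtain ⟨s, rfl⟩ := Ideal.Quotient.mk_surjective s
    rw [← map_mul, ← map_mul, ← map_add, mem_pow_quot] at hrs
    rw [map_maximal]
    exact ⟨Ideal.mem_map_of_mem _ (F.indep' r s hrs).1, Ideal.mem_map_of_mem _ (F.indep' r s hrs).2⟩
  let mon : Fin 3 → PS ⧸ (I ⊔ 𝔪 ^ 3) :=
    ![Ideal.Quotient.mk _ (x ^ 2), Ideal.Quotient.mk _ (x * y), Ideal.Quotient.mk _ (y ^ 2)]
  let Φ := Fintype.linearCombination k mon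
  have hΦ : ∀ r : Fin 3 → k, Φ r = Ideal.Quotient.mk _ (C (r 0) * x ^ 2 + C (r 1) * x * y + C (r 2) * y ^ 2) := by
    intro r
    simp only [Φ, Fintype.linearCombination_apply, Fin.sum_univ_three, mon, Algebra.smul_def,
      IsScalarTower.algebraMap_apply k PS (PS ⧸ (I ⊔ 𝔪 ^ 3)), Ideal.Quotient.algebraMap_eq,
      MvPowerSeries.algebraMap_apply, Algebra.algebraMap_self, RingHom.id_apply]
    simp [mul_assoc]
  -- each monomial is a multiple of one of them as soon as two independent relations hold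
  have hone : Module.finrank k (LinearMap.ker Φ) ≤ 1 := by
    by_contra hlt
    have hrk := LinearMap.finrank_range_add_finrank_ker Φ
    rw [Module.finrank_fintype_fun_eq_card, Fintype.card_fin] at hrk
    obtain ⟨v₀, hv₀⟩ := finrank_le_one_iff.1 (show Module.finrank k (LinearMap.range Φ) ≤ 1 by omega)
    have hmon : ∀ i, mon i ∈ LinearMap.range Φ := fun i => ⟨Pi.single i 1, by
      simp [Φ, Fintype.linearCombination_apply, Pi.single_apply]⟩
    obtain ⟨i₀, hi₀⟩ : ∃ i₀, ∀ i, ∃ l : k, mon i = l • mon i₀ := by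
      by_cases h0 : ∀ i, mon i = 0
      · exact ⟨0, fun i => ⟨0, by rw [h0 i, zero_smul]⟩⟩
      push Not at h0
      obtain ⟨i₀, hi₀⟩ := h0
      obtain ⟨c₀, hc₀⟩ := hv₀ ⟨mon i₀, hmon i₀⟩
      refine ⟨i₀, fun i => ?_⟩
      obtain ⟨c, hc⟩ := hv₀ ⟨mon i, hmon i⟩
      have e₀ : c₀ • (v₀ : PS ⧸ (I ⊔ 𝔪 ^ 3)) = mon i₀ := congrArg Subtype.val hc₀
      have e : c • (v₀ : PS ⧸ (I ⊔ 𝔪 ^ 3)) = mon i := congrArg Subtype.val hc
      have hc0 : c₀ ≠ 0 := fun h => hi₀ (by rw [← e₀, h, zero_smul])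
      exact ⟨c / c₀, by rw [← e, ← e₀, smul_smul, div_mul_cancel₀ _ hc0]⟩
    let mz : Fin 3 → PS := ![x ^ 2, x * y, y ^ 2]
    have hmz : ∀ i, mon i = Ideal.Quotient.mk _ (mz i) := fun i => by fin_cases i <;> rfl
    obtain ⟨p, hp, q, hq, hpq⟩ : ∃ p ∈ 𝔪, ∃ q ∈ 𝔪, p * q = mz i₀ := by
      fin_cases i₀
      · exact ⟨x, F.xm, x, F.xm, (pow_two x).symm⟩
      · exact ⟨x, F.xm, y, F.ym, rfl⟩
      · exact ⟨y, F.ym, y, F.ym, (pow_two y).symm⟩
    obtain ⟨t, htm, ht⟩ := hreg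
    have hall : ∀ i, π (mz i) ∈ Ideal.span {π p * π q} ⊔ maximalIdeal (PS ⧸ I) ^ 3 := fun i => by
      obtain ⟨l, hl⟩ := hi₀ i
      rw [hmz, hmz, Algebra.smul_def, IsScalarTower.algebraMap_apply k PS (PS ⧸ (I ⊔ 𝔪 ^ 3)),
        Ideal.Quotient.algebraMap_eq, ← map_mul, Ideal.Quotient.eq] at hl
      rw [show mz i = algebraMap k PS l * mz i₀ + (mz i - algebraMap k PS l * mz i₀) by ring, map_add, map_mul,
        ← hpq, map_mul π p q]
      exact add_mem (Ideal.mem_sup_left (Ideal.mem_span_singleton'.2 ⟨_, rfl⟩))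
        (Ideal.mem_sup_right (mem_pow_quot.2 (hpq ▸ hl)))
    refine not_sq_principal F.span_quot hind htm ht (p := π p) (q := π q) ?_ ?_ ?_
    · rw [map_maximal]; exact Ideal.mem_map_of_mem _ hp
    · rw [map_maximal]; exact Ideal.mem_map_of_mem _ hq
    · conv_lhs => rw [pow_two, ← F.span_quot, Ideal.span_mul_span']
      refine Ideal.span_le.2 ?_
      rintro _ ⟨a, ha, b, hb, rfl⟩
      show a * b ∈ _
      simp only [Set.mem_insert_iff, Set.mem_singleton_iff] at ha hb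
      rcases ha with ha | ha <;> rcases hb with hb | hb <;> rw [ha, hb, ← map_mul]
      · simpa [mz, pow_two] using hall 0
      · simpa [mz] using hall 1
      · simpa [mz, mul_comm] using hall 1
      · simpa [mz, pow_two] using hall 2
  obtain ⟨⟨r₀, hr₀⟩, hall⟩ := finrank_le_one_iff.1 hone
  -- the derivatives of the relations span the tangent space
  have hdisc : 4 * r₀ 0 * r₀ 2 - r₀ 1 ^ 2 ≠ 0 := by
    intro h0
    let S : Submodule k (Fin 2 → k) := Submodule.span k {![2 * r₀ 0, r₀ 1], ![r₀ 1, 2 * r₀ 2]}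
    have hz : ![(0 : k), 0] = 0 := by ext j; fin_cases j <;> rfl
    let T : Ideal PS :=
      { carrier := {p | p ∈ 𝔪 ∧ ![lc α p, lc β p] ∈ S}
        zero_mem' := ⟨zero_mem _, by simp [lc, D_zero, hz]⟩
        add_mem' := fun {p q} hp hq => ⟨add_mem hp.1 hq.1, by
          simpa [lc_add] using add_mem hp.2 hq.2⟩
        smul_mem' := fun c p hp => ⟨Ideal.mul_mem_left _ _ hp.1, by
          have := S.smul_mem (constantCoeff c) hp.2
          simpa [smul_eq_mul, lc_mul, mem_m.1 hp.1] using this⟩ }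
    have hJT : J f ≤ T := by
      refine sup_le (Ideal.span_le.2 ?_) fun h hh => ⟨F.le hh, by simp [(F.lc_mem hh).1, (F.lc_mem hh).2, hz]⟩
      rintro _ ⟨ρ, γ, -, -, rfl⟩
      obtain ⟨g, hgI, hg2, w, hw, hdm, hlc, -⟩ :=
        minor_analysis f hfm (by rw [F.finrank_linSpan]) ρ γ
      refine ⟨hdm, ?_⟩
      obtain ⟨a, b, c, he, e1, e2, e3, e4⟩ := F.quad hg2
      have hrel : C a * x ^ 2 + C b * x * y + C c * y ^ 2 ∈ I ⊔ 𝔪 ^ 3 := by
        have := sub_mem (Ideal.mem_sup_left hgI : g ∈ I ⊔ 𝔪 ^ 3) he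
        rwa [sub_sub_cancel] at this
      obtain ⟨l, hl⟩ := hall ⟨![a, b, c], by
        rw [LinearMap.mem_ker, hΦ]; exact Ideal.Quotient.eq_zero_iff_mem.2 (by simpa using hrel)⟩
      have hl' := congrArg Subtype.val hl
      have ha : l * r₀ 0 = a := by simpa using congrFun hl' 0
      have hb : l * r₀ 1 = b := by simpa using congrFun hl' 1
      have hc : l * r₀ 2 = c := by simpa using congrFun hl' 2
      have hwab := F.ann_eq hw
      have hD : D w g = C (lc w x) * D α g + C (lc w y) * D β g := by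
        conv_lhs => rw [hwab]
        simp [D, Finset.mul_sum, ← Finset.sum_add_distrib, add_mul, mul_assoc]
      have key : ![lc α (D w g), lc β (D w g)] =
          (lc w x * l) • ![2 * r₀ 0, r₀ 1] + (lc w y * l) • ![r₀ 1, 2 * r₀ 2] := by
        ext j
        fin_cases j <;> simp [hD, lc_add, lc_mul, lc_C, e1, e2, e3, e4, ← ha, ← hb, ← hc] <;> ring
      rw [hlc, hlc, key]
      exact add_mem (S.smul_mem _ (Submodule.subset_span (by simp)))
        (S.smul_mem _ (Submodule.subset_span (by simp)))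
    have hx := (hJT (hJ.symm ▸ F.xm)).2
    have hy := (hJT (hJ.symm ▸ F.ym)).2
    rw [F.lc_x.1, F.lc_x.2] at hx
    rw [F.lc_y.1, F.lc_y.2] at hy
    obtain ⟨p, q, hpq⟩ := Submodule.mem_span_pair.1 hx
    obtain ⟨p', q', hpq'⟩ := Submodule.mem_span_pair.1 hy
    have a1 : p * (2 * r₀ 0) + q * r₀ 1 = 1 := by simpa using congrFun hpq 0
    have a2 : p * r₀ 1 + q * (2 * r₀ 2) = 0 := by simpa using congrFun hpq 1
    have a3 : p' * (2 * r₀ 0) + q' * r₀ 1 = 0 := by simpa using congrFun hpq' 0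
    have a4 : p' * r₀ 1 + q' * (2 * r₀ 2) = 1 := by simpa using congrFun hpq' 1
    refine one_ne_zero (α := k) ?_
    linear_combination (-(p' * r₀ 1 + q' * (2 * r₀ 2))) * a1 + (p' * (2 * r₀ 0) + q' * r₀ 1) * a2 - a4 +
      (p * q' - p' * q) * h0
  refine ⟨π x, π y, π (C (r₀ 0)), π (C (r₀ 1)), π (C (r₀ 2)), ⟨F.span_quot, ?_, ?_, hind, hreg⟩⟩
  · rw [residue_ne_zero_iff_isUnit]
    have hu : IsUnit (π (C (4 * r₀ 0 * r₀ 2 - r₀ 1 ^ 2))) :=
      ((isUnit_iff_ne_zero.2 hdisc).map MvPowerSeries.C).map π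
    simpa [map_sub, map_mul, map_pow, map_ofNat] using hu
  · rw [← map_pow, ← map_pow, ← map_mul, ← map_mul, ← map_mul, ← map_mul, ← map_add, ← map_add, mem_pow_quot]
    exact Ideal.Quotient.eq_zero_iff_mem.1 ((hΦ r₀).symm.trans hr₀)

end Groth.Agent.NodeMinors9
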