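import Groth.Agent.NodeMinors9.Main
import Groth.Agent.NodeDelta9.OfNode
import Groth.Agent.CAlgH3.Depth
import Mathlib

/-!
# A node satisfies the Jacobian criterion
-/

set_option autoImplicit false
set_option linter.style.haveILetI false
set_option maxHeartbeats 1000000

universe u

open IsLocalRing MvPowerSeries

namespace Groth.Agent.NodeMinors9

open NodeLib7

variable {k : Type u} [Field k] {n m : ℕ}

local notation "PS" => MvPowerSeries (Fin n) k
local notation "𝔪" => maximalIdeal (MvPowerSeries (Fin n) k)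

theorem D_mem_J {I : Ideal PS} (f : Fin m → PS) (hI : I = Ideal.span (Set.range f)) {x y : PS} {α β : Fin n → k}
    (F : Frame I x y α β) {w : PS} (hwI : w ∈ I) (hw2 : w ∈ 𝔪 ^ 2) (a : Fin n → k)
    (ha : ∀ h ∈ I, lc a h = 0) : D a w ∈ J f ⊔ 𝔪 ^ 2 := by
  classical
  have hn := F.finrank_linSpan
  obtain ⟨N, rfl⟩ : ∃ N, n = N + 2 := ⟨n - 2, by omega⟩
  let b := Module.finBasisOfFinrankEq k (linSpan I) (show Module.finrank k (linSpan I) = N by omega)
  choose h hh hlin using fun l : Fin N => mem_linSpan.1 (b l).2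
  obtain ⟨v, hv⟩ := exists_dual (fun l => ((b l : linSpan I) : Fin (N + 2) → k))
    (b.linearIndependent.map' (linSpan I).subtype (Submodule.ker_subtype _))
  let g : Fin (N + 1) → MvPowerSeries (Fin (N + 2)) k := Fin.cons w h
  let V : Fin (N + 1) → Fin (N + 2) → k := Fin.cons a v
  have hdet : (Matrix.of fun l j => D (V j) (g l)).det ∈ J f :=
    det_mem_J f g (fun l => by
      refine Fin.cases ?_ (fun i => ?_) l
      · simpa [g, ← hI] using hwI
      · simpa [g, ← hI] using hh i) V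
  have key := det_sub_mem_sq (Matrix.of fun l j => D (V j) (g l))
    (fun j => by simpa [g] using D_mem hw2 (V j))
    (fun i => by
      refine Fin.cases ?_ (fun i => ?_) i
      · simpa [g, V] using D_mem hw2 a
      · simpa [g, V] using mem_m.2 (ha _ (hh i)))
    (fun i j => by
      have := hv j i
      rw [← hlin i, ← lc_eq] at this
      simpa [g, V, lc] using this)
  have hsub := sub_mem (Ideal.mem_sup_left hdet : _ ∈ J f ⊔ maximalIdeal (MvPowerSeries (Fin (N + 2)) k) ^ 2)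
    (Ideal.mem_sup_right key)
  simpa [g, V] using hsub

/-- Node data make the minors generate the maximal ideal. -/
theorem J_eq_of_nodeData (f : Fin m → PS) (hfm : ∀ j, f j ∈ 𝔪) [IsLocalRing (PS ⧸ Ideal.span (Set.range f))]
    {x y a b c : PS ⧸ Ideal.span (Set.range f)} (h : NodeData (PS ⧸ Ideal.span (Set.range f)) x y a b c) :
    J f = 𝔪 := by
  classical
  let π := Ideal.Quotient.mk (Ideal.span (Set.range f))
  have hIm : (Ideal.span (Set.range f)) ≤ 𝔪 := Ideal.span_le.2 fun _ ⟨j, hj⟩ => hj ▸ hfm j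
  have hm1 : ∀ p, π p ∈ maximalIdeal (PS ⧸ (Ideal.span (Set.range f))) ↔ p ∈ 𝔪 := fun p => by
    rw [← pow_one (maximalIdeal (PS ⧸ (Ideal.span (Set.range f)))), mem_pow_quot, pow_one, sup_eq_right.2 hIm]
  have hxm : x ∈ maximalIdeal (PS ⧸ (Ideal.span (Set.range f))) := h.span ▸ Ideal.subset_span (by simp)
  have hym : y ∈ maximalIdeal (PS ⧸ (Ideal.span (Set.range f))) := h.span ▸ Ideal.subset_span (by simp)
  obtain ⟨X', rfl⟩ := Ideal.Quotient.mk_surjective x
  obtain ⟨Y', rfl⟩ := Ideal.Quotient.mk_surjective y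
  obtain ⟨a', rfl⟩ := Ideal.Quotient.mk_surjective a
  obtain ⟨b', rfl⟩ := Ideal.Quotient.mk_surjective b
  obtain ⟨c', rfl⟩ := Ideal.Quotient.mk_surjective c
  have hX'm := (hm1 X').1 hxm
  have hY'm := (hm1 Y').1 hym
  have hco : ∀ i : Fin n, ∃ r s : k, MvPowerSeries.X i - (C r * X' + C s * Y') ∈ (Ideal.span (Set.range f)) ⊔ 𝔪 ^ 2 := by
    intro i
    obtain ⟨r, s, hrs⟩ := Ideal.mem_span_pair.1 (h.span.symm ▸ (hm1 (MvPowerSeries.X i)).2 (mem_m.2 (by simp)))
    obtain ⟨r, rfl⟩ := Ideal.Quotient.mk_surjective r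
    obtain ⟨s, rfl⟩ := Ideal.Quotient.mk_surjective s
    refine ⟨constantCoeff r, constantCoeff s, ?_⟩
    rw [show MvPowerSeries.X i - (C (constantCoeff r) * X' + C (constantCoeff s) * Y') =
      (MvPowerSeries.X i - (r * X' + s * Y')) + ((r - C (constantCoeff r)) * X' + (s - C (constantCoeff s)) * Y')
        by ring]
    refine add_mem (Ideal.mem_sup_left ?_) (Ideal.mem_sup_right ?_)
    · rw [← Ideal.Quotient.eq_zero_iff_mem, map_sub, map_add, map_mul, map_mul, hrs, sub_self]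
    · rw [pow_two]
      exact add_mem (Ideal.mul_mem_mul (mem_m.2 (by simp)) hX'm) (Ideal.mul_mem_mul (mem_m.2 (by simp)) hY'm)
  choose α β hαβ using hco
  have F : Frame (Ideal.span (Set.range f)) X' Y' α β := ⟨hX'm, hY'm, hIm, hαβ, fun r s hrs => by
    obtain ⟨h1, h2⟩ := h.indep (π (C r)) (π (C s)) (by
      rw [← map_mul, ← map_mul, ← map_add, mem_pow_quot]; exact hrs)
    exact ⟨by simpa using mem_m.1 ((hm1 _).1 h1), by simpa using mem_m.1 ((hm1 _).1 h2)⟩⟩
  have hle : J f ≤ 𝔪 := by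
    refine sup_le (Ideal.span_le.2 ?_) hIm
    rintro _ ⟨ρ, γ, -, -, rfl⟩
    obtain ⟨g, -, -, w, -, hdm, -⟩ := minor_analysis f hfm (by rw [F.finrank_linSpan]) ρ γ
    exact hdm
  refine le_antisymm hle ?_
  set a₀ := constantCoeff a'
  set b₀ := constantCoeff b'
  set c₀ := constantCoeff c'
  have hdisc : 4 * a₀ * c₀ - b₀ ^ 2 ≠ 0 := by
    intro h0
    refine h.disc ((residue_eq_zero_iff _).2 ?_)
    rw [show (4 * π a' * π c' - π b' ^ 2 : PS ⧸ (Ideal.span (Set.range f))) = π (4 * a' * c' - b' ^ 2) by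
      simp [map_sub, map_mul, map_pow, map_ofNat]]
    exact (hm1 _).2 (mem_m.2 (by simpa [map_sub, map_mul, map_pow, map_ofNat] using h0))
  have hQ : C a₀ * X' ^ 2 + C b₀ * X' * Y' + C c₀ * Y' ^ 2 ∈ (Ideal.span (Set.range f)) ⊔ 𝔪 ^ 3 := by
    rw [show C a₀ * X' ^ 2 + C b₀ * X' * Y' + C c₀ * Y' ^ 2 =
      (a' * X' ^ 2 + b' * X' * Y' + c' * Y' ^ 2) - ((a' - C a₀) * X' ^ 2 + (b' - C b₀) * (X' * Y') +
        (c' - C c₀) * Y' ^ 2) by ring]
    refine sub_mem (mem_pow_quot.1 ?_) (Ideal.mem_sup_right ?_)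
    · simpa [map_add, map_mul, map_pow] using h.rel
    · rw [pow_succ' 𝔪 2, pow_two 𝔪]
      refine add_mem (add_mem ?_ ?_) ?_ <;>
        refine Ideal.mul_mem_mul (mem_m.2 (by simp [a₀, b₀, c₀])) ?_
      · rw [pow_two]; exact Ideal.mul_mem_mul hX'm hX'm
      · exact Ideal.mul_mem_mul hX'm hY'm
      · rw [pow_two]; exact Ideal.mul_mem_mul hY'm hY'm
  obtain ⟨w, hwI, q, hq, hwq⟩ := Submodule.mem_sup.1 hQ
  have hw2 : w ∈ 𝔪 ^ 2 := by
    rw [show w = C a₀ * X' ^ 2 + C b₀ * X' * Y' + C c₀ * Y' ^ 2 - q by rw [← hwq]; ring]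
    refine sub_mem (add_mem (add_mem ?_ ?_) ?_) (Ideal.pow_le_pow_right (by norm_num) hq)
    · exact Ideal.mul_mem_left _ _ (Ideal.pow_mem_pow hX'm 2)
    · rw [mul_assoc, pow_two]; exact Ideal.mul_mem_left _ _ (Ideal.mul_mem_mul hX'm hY'm)
    · exact Ideal.mul_mem_left _ _ (Ideal.pow_mem_pow hY'm 2)
  have hH : ∀ u v : Fin n → k, lc v (D u w) =
      a₀ * (2 * (lc u X' * lc v X')) + b₀ * (lc u X' * lc v Y' + lc v X' * lc u Y') +
        c₀ * (2 * (lc u Y' * lc v Y')) := by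
    intro u v
    have := congrArg (fun p => lc v (D u p)) hwq
    simp only [D_add, lc_add, lc_D_cube v u hq, add_zero, mul_assoc, pow_two, lc_D_C_mul,
      lc_D_mul v u hX'm hX'm, lc_D_mul v u hX'm hY'm, lc_D_mul v u hY'm hY'm] at this
    linear_combination this
  have hgen : ∀ d : Fin n → k, (∀ h ∈ (Ideal.span (Set.range f)), lc d h = 0) →
      C (lc α (D d w)) * X' + C (lc β (D d w)) * Y' ∈ J f ⊔ 𝔪 ^ 2 := by
    intro d hd
    have h1 := D_mem_J f rfl F hwI hw2 d hd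
    have h2 : (Ideal.span (Set.range f)) ⊔ 𝔪 ^ 2 ≤ J f ⊔ 𝔪 ^ 2 := sup_le_sup_right le_sup_right _
    have := sub_mem h1 (h2 (F.approx (D_mem hw2 d)))
    rwa [sub_sub_cancel] at this
  have e1 := hgen α fun h hh => (F.lc_mem hh).1
  have e2 := hgen β fun h hh => (F.lc_mem hh).2
  rw [hH, hH, F.lc_x.1, F.lc_x.2, F.lc_y.1, F.lc_y.2] at e1 e2
  simp only [mul_one, one_mul, mul_zero, zero_mul, add_zero, zero_add] at e1 e2
  have hu : IsUnit (C (4 * a₀ * c₀ - b₀ ^ 2) : PS) := (isUnit_iff_ne_zero.2 hdisc).map MvPowerSeries.C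
  have hX : X' ∈ J f ⊔ 𝔪 ^ 2 := by
    refine (Ideal.unit_mul_mem_iff_mem _ hu).1 ?_
    convert sub_mem (Ideal.mul_mem_left _ (C (c₀ * 2)) e1) (Ideal.mul_mem_left _ (C b₀) e2) using 1
    simp only [map_sub, map_mul, map_pow, map_ofNat]; ring
  have hY : Y' ∈ J f ⊔ 𝔪 ^ 2 := by
    refine (Ideal.unit_mul_mem_iff_mem _ hu).1 ?_
    convert sub_mem (Ideal.mul_mem_left _ (C (a₀ * 2)) e2) (Ideal.mul_mem_left _ (C b₀) e1) using 1
    simp only [map_sub, map_mul, map_pow, map_ofNat]; ring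
  refine Submodule.le_of_le_smul_of_le_jacobson_bot (I := 𝔪) (IsNoetherian.noetherian _)
    (IsLocalRing.maximalIdeal_le_jacobson _) fun p hp => ?_
  rw [smul_eq_mul, ← pow_two]
  rw [show p = (p - (C (lc α p) * X' + C (lc β p) * Y')) + (C (lc α p) * X' + C (lc β p) * Y') by ring]
  exact add_mem ((show Ideal.span (Set.range f) ⊔ 𝔪 ^ 2 ≤ J f ⊔ 𝔪 ^ 2 from sup_le_sup_right le_sup_right _) (F.approx hp))
    (add_mem (Ideal.mul_mem_left _ _ hX) (Ideal.mul_mem_left _ _ hY))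

/-- The quotient of the power series ring is complete. -/
theorem isAdicComplete_quot (I : Ideal PS) [IsLocalRing (PS ⧸ I)] :
    IsAdicComplete (maximalIdeal (PS ⧸ I)) (PS ⧸ I) := by
  have hX : Ideal.span (Set.range (MvPowerSeries.X : Fin n → PS)) = 𝔪 :=
    le_antisymm (Ideal.span_le.2 fun _ ⟨i, hi⟩ => hi ▸ mem_m.2 (by simp)) fun p hp => by
      rw [← Et18.sum_X_mul_divVar p (mem_m.1 hp)]
      exact Ideal.sum_mem _ fun i _ => Ideal.mul_mem_right _ _ (Ideal.subset_span ⟨i, rfl⟩)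
  haveI : IsAdicComplete 𝔪 PS := hX ▸ CAlgH.isAdicComplete_mvPowerSeries (Fin n) k
  exact CommAlg4.NodeCompletion.isAdicComplete_quotient I

end Groth.Agent.NodeMinors9
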